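import Groth.Agent.Lib.CohFound.Rpush
import Groth.Agent.Lib.CohFound.SerreVan
import Groth.Agent.Lib.CohFound.ModAb
import Groth.Agent.Lib.Twist.Tensor
import Groth.Agent.Lib.Twist.ProjSpace
import Groth.Agent.Lib.TensorMod.PullTensor
import Groth.Prelude.Def_KRR

/-!
# Regularity in short exact sequences on projective space
-/

set_option autoImplicit false

universe u

open CategoryTheory TopologicalSpace Opposite CategoryTheory.Limits AlgebraicGeometry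

namespace Groth.Agent.RegSeq23

open CohFound

section Killed

variable {X Y : TopCat.{u}} (f : X ⟶ Y) {S : ShortComplex (CohTop.Ab X)}

theorem locKilled_mid (hS : S.ShortExact) (n : ℕ) (h₁ : LocKilled f n S.X₁) (h₃ : LocKilled f n S.X₃) :
    LocKilled f n S.X₂ := by
  intro V ξ y hy
  obtain ⟨W₁, hW₁, hy₁, hξ₁⟩ := h₃ V (mp S.g n _ ξ) y hy
  rw [← mp_rs] at hξ₁
  obtain ⟨η, hη⟩ := exact₂ hS n _ _ hξ₁
  obtain ⟨W₂, hW₂, hy₂, hη₂⟩ := h₁ W₁ η y hy₁
  refine ⟨W₂, hW₂.trans hW₁, hy₂, ?_⟩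
  rw [← rs_rs S.X₂ n (leOfHom ((Opens.map f).map (homOfLE hW₁))) (leOfHom ((Opens.map f).map (homOfLE hW₂))),
    ← hη, ← mp_rs, hη₂, map_zero]

theorem locKilled_right (hS : S.ShortExact) (n : ℕ) (h₂ : LocKilled f n S.X₂) (h₁ : LocKilled f (n + 1) S.X₁) :
    LocKilled f n S.X₃ := by
  intro V ξ y hy
  obtain ⟨W₁, hW₁, hy₁, hξ₁⟩ := h₁ V (delta hS n _ ξ) y hy
  rw [← delta_rs] at hξ₁
  obtain ⟨η, hη⟩ := exact₃ hS n _ _ hξ₁
  obtain ⟨W₂, hW₂, hy₂, hη₂⟩ := h₂ W₁ η y hy₁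
  refine ⟨W₂, hW₂.trans hW₁, hy₂, ?_⟩
  rw [← rs_rs S.X₃ n (leOfHom ((Opens.map f).map (homOfLE hW₁))) (leOfHom ((Opens.map f).map (homOfLE hW₂))),
    ← hη, ← mp_rs, hη₂, map_zero]

theorem locKilled_left (hS : S.ShortExact) (n : ℕ) (h₃ : LocKilled f n S.X₃) (h₂ : LocKilled f (n + 1) S.X₂) :
    LocKilled f (n + 1) S.X₁ := by
  intro V ξ y hy
  obtain ⟨W₁, hW₁, hy₁, hξ₁⟩ := h₂ V (mp S.f (n + 1) _ ξ) y hy
  rw [← mp_rs] at hξ₁
  obtain ⟨η, hη⟩ := exact₁ hS n _ _ hξ₁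
  obtain ⟨W₂, hW₂, hy₂, hη₂⟩ := h₃ W₁ η y hy₁
  refine ⟨W₂, hW₂.trans hW₁, hy₂, ?_⟩
  rw [← rs_rs S.X₁ (n + 1) (leOfHom ((Opens.map f).map (homOfLE hW₁))) (leOfHom ((Opens.map f).map (homOfLE hW₂))),
    ← hη, ← delta_rs, hη₂, map_zero]

theorem locKilled_left_zero (hS : S.ShortExact)
    (hsurj : TopCat.Presheaf.IsLocallySurjective ((CohTop.push f).map S.g).hom)
    (h₂ : LocKilled f 1 S.X₂) : LocKilled f 1 S.X₁ := by
  intro V ξ y hy
  obtain ⟨W₁, hW₁, hy₁, hξ₁⟩ := h₂ V (mp S.f 1 _ ξ) y hy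
  rw [← mp_rs] at hξ₁
  obtain ⟨η, hη⟩ := exact₁ hS 0 _ _ hξ₁
  obtain ⟨W₂, hW₂, ⟨t, ht⟩, hy₂⟩ := (TopCat.Presheaf.isLocallySurjective_iff _).1 hsurj W₁
    (hc0 S.X₃ ((Opens.map f).obj W₁) η) y hy₁
  refine ⟨W₂, hW₂.trans hW₁, hy₂, ?_⟩
  rw [← rs_rs S.X₁ 1 (leOfHom ((Opens.map f).map (homOfLE hW₁))) (leOfHom ((Opens.map f).map (homOfLE hW₂))),
    ← hη, ← delta_rs]
  have : rs S.X₃ 0 (leOfHom ((Opens.map f).map (homOfLE hW₂))) η =
      mp S.g 0 _ ((hc0 S.X₂ ((Opens.map f).obj W₂)).symm t) := by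
    apply (hc0 S.X₃ ((Opens.map f).obj W₂)).injective
    rw [hc0_mp, hc0_rs, AddEquiv.apply_symm_apply]
    exact ht.symm
  rw [this, delta_mp]

end Killed

section Twists

variable (r : ℕ) {S : Scheme.{u}}

/-- `O(d) ⊗ O(e) ≅ O(d + e)` on projective space over a scheme. -/
theorem nonempty_twistOver_tensor (d e : ℤ) :
    Nonempty (CohB1.tensorMod (_root_.Twist.twistOver r S d) (_root_.Twist.twistOver r S e) ≅
      _root_.Twist.twistOver r S (d + e)) := by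
  obtain ⟨t⟩ := Twist.nonempty_tensor_iso (CohB1.polyGrading r (ULift.{u} ℤ)) d e
    (Twist.iSup_basicOpen_one r (ULift.{u} ℤ))
  exact ⟨(M2.pullTensorIso _ _ _).symm ≪≫ (Scheme.Modules.pullback _).mapIso t⟩

theorem nonempty_twistOver_zero :
    Nonempty (_root_.Twist.twistOver r S 0 ≅ Coh.structureModule (CohB1.ProjSpaceOver r S)) := by
  obtain ⟨t⟩ := Twist.nonempty_twist_zero_iso (CohB1.polyGrading r (ULift.{u} ℤ))
  exact ⟨(Scheme.Modules.pullback _).mapIso t ≪≫ Twist.pullbackUnitIso _⟩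

end Twists

section Scheme

variable (n : ℕ) {T : Scheme.{u}}

/-- `F ⊗ O(d)` vanishing of higher direct images, as local killing. -/
theorem locKilled_iff (d : ℤ) (i : ℕ) (F : (KRR.PY n T).Modules) :
    IsZero ((Coh.RpushAb (KRR.pr n T) (i + 1)).obj (Coh.toAb (KRR.twF n T d F))) ↔
      LocKilled ((KRR.pr n T).base : sp (KRR.PY n T) ⟶ sp T) (i + 1)
        ((abF _).obj ((M2.tensorR (Twist.twistOver n T d)).obj F)) := by
  exact (Iso.isZero_iff (((Coh.RpushAb (KRR.pr n T) (i + 1))).mapIso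
    ((SheafOfModules.toSheaf _).mapIso (M2.tensorComm (Twist.twistOver n T d) F)))).trans
    (isZero_rpush_succ_iff _ i _)

theorem nonempty_twF_twF (d e : ℤ) (F : (KRR.PY n T).Modules) :
    Nonempty (KRR.twF n T d (KRR.twF n T e F) ≅ KRR.twF n T (d + e) F) := by
  obtain ⟨t⟩ := nonempty_twistOver_tensor n (S := T) d e
  exact ⟨(M2.tensorAssoc _ _ _).symm ≪≫ M2.tensorIso t (Iso.refl F)⟩

theorem nonempty_twF_zero (F : (KRR.PY n T).Modules) : Nonempty (KRR.twF n T 0 F ≅ F) := by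
  obtain ⟨z⟩ := nonempty_twistOver_zero n (S := T)
  exact ⟨M2.tensorIso z (Iso.refl F) ≪≫ M2.tensorLUnit F⟩

theorem isZero_twF_twF_iff (d e c : ℤ) (h : d + e = c) (i : ℕ) (F : (KRR.PY n T).Modules) :
    IsZero ((Coh.RpushAb (KRR.pr n T) i).obj (Coh.toAb (KRR.twF n T d (KRR.twF n T e F)))) ↔
      IsZero ((Coh.RpushAb (KRR.pr n T) i).obj (Coh.toAb (KRR.twF n T c F))) := by
  subst h
  obtain ⟨t⟩ := nonempty_twF_twF n d e F
  exact Iso.isZero_iff ((Coh.RpushAb (KRR.pr n T) i).mapIso ((SheafOfModules.toSheaf _).mapIso t))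

theorem shortExact_twist {S : ShortComplex (KRR.PY n T).Modules} (hS : S.ShortExact) (d : ℤ) :
    ((S.map (M2.tensorR (Twist.twistOver n T d))).map (abF _)).ShortExact :=
  shortExact_abF (shortExact_tensor_invertible hS (Twist.isInvertible_twistOver n T d))

theorem isRegSheaf_mid {S : ShortComplex (KRR.PY n T).Modules} (hS : S.ShortExact)
    (h₁ : KRR.IsRegSheaf n T S.X₁) (h₃ : KRR.IsRegSheaf n T S.X₃) : KRR.IsRegSheaf n T S.X₂ := by
  rintro (_ | i) hi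
  · omega
  rw [locKilled_iff]
  exact locKilled_mid _ (shortExact_twist n hS _) (i + 1) ((locKilled_iff n _ i _).1 (h₁ _ hi))
    ((locKilled_iff n _ i _).1 (h₃ _ hi))

theorem isRegSheaf_right {S : ShortComplex (KRR.PY n T).Modules} (hS : S.ShortExact)
    (h₂ : KRR.IsRegSheaf n T S.X₂) (h₁ : KRR.IsRegSheaf n T (KRR.twF n T 1 S.X₁)) :
    KRR.IsRegSheaf n T S.X₃ := by
  rintro (_ | i) hi
  · omega
  rw [locKilled_iff]
  refine locKilled_right _ (shortExact_twist n hS _) (i + 1) ((locKilled_iff n _ i _).1 (h₂ _ hi))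
    ((locKilled_iff n _ (i + 1) _).1 ?_)
  exact (isZero_twF_twF_iff n _ 1 _ (by push_cast; ring) _ _).1 (h₁ (i + 2) (by omega))

theorem isRegSheaf_left {S : ShortComplex (KRR.PY n T).Modules} (hS : S.ShortExact)
    (h₂ : KRR.IsRegSheaf n T (KRR.twF n T 1 S.X₂)) (h₃ : KRR.IsRegSheaf n T S.X₃)
    (hepi : Epi ((Scheme.Modules.pushforward (KRR.pr n T)).map S.g)) :
    KRR.IsRegSheaf n T (KRR.twF n T 1 S.X₁) := by
  rintro (_ | _ | i) hi
  · omega
  · obtain ⟨t₁⟩ := nonempty_twF_zero n S.X₁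
    obtain ⟨t₂⟩ := nonempty_twF_zero n S.X₂
    have hS' : (S.map (abF (KRR.PY n T))).ShortExact := shortExact_abF hS
    rw [isZero_twF_twF_iff n _ 1 0 (by norm_num), Iso.isZero_iff
      ((Coh.RpushAb (KRR.pr n T) 1).mapIso ((SheafOfModules.toSheaf _).mapIso t₁))]
    have h := (isZero_twF_twF_iff n _ 1 0 (by norm_num) _ _).1 (h₂ 1 le_rfl)
    rw [Iso.isZero_iff ((Coh.RpushAb (KRR.pr n T) 1).mapIso ((SheafOfModules.toSheaf _).mapIso t₂))] at h
    refine (isZero_rpush_succ_iff _ 0 _).2 (locKilled_left_zero _ hS' ?_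
      ((isZero_rpush_succ_iff _ 0 _).1 h))
    have : Epi ((CohTop.push ((KRR.pr n T).base : sp (KRR.PY n T) ⟶ sp T)).map ((abF _).map S.g)) :=
      (shortExact_abF (ShortComplex.ShortExact.mk' (S := ShortComplex.mk (kernel.ι
        ((Scheme.Modules.pushforward (KRR.pr n T)).map S.g)) _ (kernel.condition _))
        (ShortComplex.exact_kernel _) inferInstance hepi)).epi_g
    exact (Sheaf.isLocallySurjective_iff_epi' _ _).2 this
  · rw [isZero_twF_twF_iff n _ 1 (-((i + 1 : ℕ) : ℤ)) (by push_cast; ring), locKilled_iff]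
    refine locKilled_left _ (shortExact_twist n hS _) (i + 1) ((locKilled_iff n _ i _).1 (h₃ (i + 1) (by omega)))
      ((locKilled_iff n _ (i + 1) _).1 ?_)
    exact (isZero_twF_twF_iff n _ 1 _ (by push_cast; ring) _ _).1 (h₂ (i + 2) (by omega))

end Scheme

end Groth.Agent.RegSeq23
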